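import Groth.Agent.H5.Rlim.Transport
import Groth.Agent.H5.KInj.Products

/-!
# Towers `ℕᵒᵖ ⥤ Sheaf J Ab`: `lim F` as derived limit and the Milnor sequence for `Ext`
(helper5 library)
-/

set_option autoImplicit false
set_option backward.isDefEq.respectTransparency false
universe w v u

namespace Groth.Agent.H5.Rlim

open CategoryTheory Limits Opposite DerivedCategory Pretriangulated

section Products

variable {A : Type u} [Category.{v} A] [Abelian A] [IsGrothendieckAbelian.{v} A]
  [HasDerivedCategory.{w} A]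

/-- Countable products exist in the derived category of a Grothendieck abelian category. -/
theorem hasProduct_nat (K : ℕ → DerivedCategory A) : HasProduct K := by
  have h := fun n => Groth.Agent.H33.RlimSite.exists_kinj_model (K n)
  choose I hI e using h
  have := Groth.Agent.H5.KInj.hasProduct_Q_obj I hI
  exact hasLimit_of_iso (F := Discrete.functor fun n => (Q.obj (I n) : DerivedCategory A))
    (G := Discrete.functor K) (Discrete.natIso (fun n => (e n.as).some))

end Products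

section Site

variable {C : Type u} [SmallCategory C] {J : GrothendieckTopology C}
  [HasDerivedCategory.{u} (Sheaf J AddCommGrpCat.{u})]

/-- The tower version of `main`. -/
theorem main_tower (F : ℕᵒᵖ ⥤ Sheaf J AddCommGrpCat.{u})
    [HasProduct fun n => (s0 J).obj (F.obj (op n))] (B : Set C)
    (hB : ∀ U : C, ∃ (ι : Type u) (Y : ι → C) (f : ∀ i, Y i ⟶ U),
      Sieve.ofArrows Y f ∈ J U ∧ ∀ i, Y i ∈ B)
    (h1 : ∀ U ∈ B, ∀ (p n : ℕ), Subsingleton (CohSite.HU (F.obj (op n)) (p + 1) U))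
    (h2 : ∀ U ∈ B, CohCx.LimOneIsZero (fun n => (F.obj (op n)).obj.obj (op U))
      (fun n => ((F.map (homOfLE (Nat.le_succ n)).op).hom.app (op U)).hom)) :
    CohCx.IsRlimVia (fun n => (s0 J).obj (F.obj (op n)))
      (fun n => (s0 J).map (F.map (homOfLE (Nat.le_succ n)).op))
      ((s0 J).obj (limit F)) (fun n => (s0 J).map (limit.π F (op n))) := by
  obtain ⟨L, a, hL, e, he, -⟩ := main (fun n => F.obj (op n))
    (fun n => F.map (homOfLE (Nat.le_succ n)).op) B hB h1 h2
  let ψ : limit F ≅ limit (CohCx.opSequence (fun n => F.obj (op n))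
      (fun n => F.map (homOfLE (Nat.le_succ n)).op)) := HasLimit.isoOfNatIso (isoOpSequence F)
  have hψ : ∀ n, ψ.hom ≫ limit.π _ (op n) = limit.π F (op n) := by
    intro n
    rw [HasLimit.isoOfNatIso_hom_π]
    simp [isoOpSequence]
  have h := isRlimVia_of_iso (e ≪≫ (s0 J).mapIso ψ.symm) hL
  have ha : (fun n => (e ≪≫ (s0 J).mapIso ψ.symm).inv ≫ a n) =
      fun n => (s0 J).map (limit.π F (op n)) := by
    funext n
    rw [Iso.trans_inv, Category.assoc, he, Functor.mapIso_inv, Iso.symm_inv, ← Functor.map_comp,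
      hψ]
  rw [ha] at h
  exact h

/-- `Ext` groups as morphisms in the derived category. -/
noncomputable def extEquiv [HasExt.{u} (Sheaf J AddCommGrpCat.{u})]
    (A G : Sheaf J AddCommGrpCat.{u}) (n : ℕ) :
    Abelian.Ext.{u} A G n ≃+ ((s0 J).obj A ⟶ ((s0 J).obj G)⟦(n : ℤ)⟧) :=
  Abelian.Ext.homAddEquiv

theorem extEquiv_map [HasExt.{u} (Sheaf J AddCommGrpCat.{u})]
    (A : Sheaf J AddCommGrpCat.{u}) {G G' : Sheaf J AddCommGrpCat.{u}} (φ : G ⟶ G') (n : ℕ)
    (x : Abelian.Ext.{u} A G n) :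
    extEquiv A G' n ((Abelian.Ext.mk₀ φ).postcomp A (add_zero n) x) =
      extEquiv A G n x ≫ ((s0 J).map φ)⟦(n : ℤ)⟧' := by
  change (Abelian.Ext.comp x (Abelian.Ext.mk₀ φ) (add_zero n)).hom = _
  rw [Abelian.Ext.comp_hom, Abelian.Ext.mk₀_hom, ShiftedHom.comp_mk₀]
  rfl

/-- The Milnor sequence for `Ext^i(A, lim F)`. -/
theorem ext_tower [HasExt.{u} (Sheaf J AddCommGrpCat.{u})] (F : ℕᵒᵖ ⥤ Sheaf J AddCommGrpCat.{u})
    [HasProduct fun n => (s0 J).obj (F.obj (op n))]
    (hL : CohCx.IsRlimVia (fun n => (s0 J).obj (F.obj (op n)))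
      (fun n => (s0 J).map (F.map (homOfLE (Nat.le_succ n)).op))
      ((s0 J).obj (limit F)) (fun n => (s0 J).map (limit.π F (op n))))
    (A : Sheaf J AddCommGrpCat.{u}) (i j : ℕ) (hij : j + 1 = i) :
    (∀ ξ : ∀ n : ℕ, Abelian.Ext.{u} A (F.obj (op n)) i,
      (∀ n, (Abelian.Ext.mk₀ (F.map (homOfLE (Nat.le_succ n)).op)).postcomp A (add_zero i)
        (ξ (n + 1)) = ξ n) →
      ∃ η : Abelian.Ext.{u} A (limit F) i,
        ∀ n, (Abelian.Ext.mk₀ (limit.π F (op n))).postcomp A (add_zero i) η = ξ n) ∧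
    Nonempty ((AddMonoidHom.pi fun n : ℕ =>
        (Abelian.Ext.mk₀ (limit.π F (op n))).postcomp A (add_zero i)).ker ≃+
      Formal2.limOne (fun n : ℕ => Abelian.Ext.{u} A (F.obj (op n)) j)
        (fun n => (Abelian.Ext.mk₀ (F.map (homOfLE (Nat.le_succ n)).op)).postcomp A
          (add_zero j))) := by
  constructor
  · intro ξ hξ
    obtain ⟨y, hy⟩ := (Groth.Agent.S0943.rlim_hom_lifts _ _ _ _ hL ((s0 J).obj A) (i : ℤ)).1
      (fun n => extEquiv A (F.obj (op n)) i (ξ n)) (fun n => by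
        rw [← extEquiv_map, hξ])
    refine ⟨(extEquiv A (limit F) i).symm y, fun n => ?_⟩
    apply (extEquiv A (F.obj (op n)) i).injective
    rw [extEquiv_map, AddEquiv.apply_symm_apply]
    exact hy n
  · obtain ⟨ε⟩ := nonempty_ker_equiv_limOne _ _ _ _ hL ((s0 J).obj A) (i : ℤ) (j : ℤ)
      (by omega)
    refine ⟨((kerPiCongr (extEquiv A (limit F) i) (fun n => extEquiv A (F.obj (op n)) i) _ _
      (fun n x => ?_)).trans ε).trans
      (limOneCongr _ _ (fun n => extEquiv A (F.obj (op n)) j) (fun n x => ?_)).symm⟩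
    · exact extEquiv_map A (limit.π F (op n)) i x
    · exact extEquiv_map A (F.map (homOfLE (Nat.le_succ n)).op) j x

end Site

end Groth.Agent.H5.Rlim
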