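import Groth.Prelude.Def_CohCx
import Groth.Prelude.Def_CohSite
import Groth.Prelude.Def_DCoh2
import Groth.Agent.H5.HDU.Site
import Groth.Agent.S0943
import Groth.Agent.H33.RlimSite

/-!
# Derived limits of towers of sheaves concentrated in degree zero (helper5 library)

Abstract part: existence of `R lim` with maps, invariance under isomorphism, Milnor vanishing.
Site part: `Hom(ℤ_U[0], F[0]⟦q⟧)` for `q < 0`, `q = 0`, `q > 0`; exactness on a covering class.
-/

set_option autoImplicit false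
set_option backward.isDefEq.respectTransparency false
universe w v u

namespace Groth.Agent.H5.Rlim

open CategoryTheory Limits Opposite DerivedCategory Pretriangulated
open Groth.Agent.H5.HDULib

section Abstract

variable {D : Type u} [Category.{v} D] [Preadditive D] [HasZeroObject D] [HasShift D ℤ]
  [∀ n : ℤ, (shiftFunctor D n).Additive] [Pretriangulated D]
  (K : ℕ → D) (t : ∀ n, K (n + 1) ⟶ K n) [HasProduct K]

theorem exists_isRlimVia : ∃ (L : D) (a : ∀ n, L ⟶ K n), CohCx.IsRlimVia K t L a := by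
  obtain ⟨L, a₀, c, h⟩ := distinguished_cocone_triangle₁
    (Pi.lift fun n => Pi.π K n - Pi.π K (n + 1) ≫ t n)
  refine ⟨L, fun n => a₀ ≫ Pi.π K n, c, ?_⟩
  have e : Pi.lift (fun n => a₀ ≫ Pi.π K n) = a₀ := by
    apply Pi.hom_ext
    intro n
    simp
  rw [e]
  exact h

variable {K t}

theorem isRlim_of_isRlimVia {L : D} {a : ∀ n, L ⟶ K n} (h : CohCx.IsRlimVia K t L a) :
    DCoh.IsRlim K t L := by
  obtain ⟨c, hc⟩ := h
  exact ⟨_, c, hc⟩

set_option backward.isDefEq.respectTransparency.types false in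
set_option backward.defeqAttrib.useBackward true in
theorem isRlim_of_iso {L L' : D} (e : L ≅ L') (h : DCoh.IsRlim K t L) : DCoh.IsRlim K t L' := by
  obtain ⟨a, c, hT⟩ := h
  refine ⟨e.inv ≫ a, c ≫ e.hom⟦(1 : ℤ)⟧', isomorphic_distinguished _ hT _
    (Triangle.isoMk _ _ e.symm (Iso.refl _) (Iso.refl _) ?_ ?_ ?_)⟩
  · dsimp
    simp
  · dsimp
    simp
  · dsimp
    simp only [Category.assoc, ← Functor.map_comp, Iso.hom_inv_id]
    simp

set_option backward.isDefEq.respectTransparency.types false in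
set_option backward.defeqAttrib.useBackward true in
theorem isRlimVia_of_iso {L L' : D} (e : L ≅ L') {a : ∀ n, L ⟶ K n}
    (h : CohCx.IsRlimVia K t L a) : CohCx.IsRlimVia K t L' (fun n => e.inv ≫ a n) := by
  obtain ⟨c, hT⟩ := h
  refine ⟨c ≫ e.hom⟦(1 : ℤ)⟧', isomorphic_distinguished _ hT _
    (Triangle.isoMk _ _ e.symm (Iso.refl _) (Iso.refl _) ?_ ?_ ?_)⟩
  · dsimp
    rw [Category.comp_id]
    apply Pi.hom_ext
    intro n
    simp
  · dsimp
    simp
  · dsimp
    simp only [Category.assoc, ← Functor.map_comp, Iso.hom_inv_id]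
    simp

theorem limOneIsZero_of_subsingleton (A : ℕ → Type w) [∀ n, AddCommGroup (A n)]
    (t : ∀ n, A (n + 1) →+ A n) [∀ n, Subsingleton (A n)] : CohCx.LimOneIsZero A t :=
  fun _ => ⟨0, Subsingleton.elim _ _⟩

theorem subsingleton_hom_shift {L : D} {a : ∀ n, L ⟶ K n} (hL : CohCx.IsRlimVia K t L a) (Z : D)
    (m : ℤ) (h0 : ∀ n, Subsingleton (Z ⟶ (K n)⟦m⟧))
    (h1 : CohCx.LimOneIsZero (fun n => Z ⟶ (K n)⟦m - 1⟧)
      (fun n => Preadditive.rightComp _ ((t n)⟦m - 1⟧'))) :
    Subsingleton (Z ⟶ L⟦m⟧) := by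
  refine ⟨fun y y' => ?_⟩
  have := (Groth.Agent.S0943.rlim_hom_lifts K t L a hL Z m).2 h1 (y - y')
    (fun n => Subsingleton.elim _ _)
  exact sub_eq_zero.1 this

end Abstract

section Site

variable {C : Type u} [SmallCategory C] (J : GrothendieckTopology C)
  [HasDerivedCategory.{u} (Sheaf J AddCommGrpCat.{u})]

/-- The embedding of sheaves in degree zero. -/
noncomputable abbrev s0 :
    Sheaf J AddCommGrpCat.{u} ⥤ DerivedCategory (Sheaf J AddCommGrpCat.{u}) :=
  DerivedCategory.singleFunctor (Sheaf J AddCommGrpCat.{u}) 0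

variable {J}

theorem subsingleton_hom_single_neg (A G : Sheaf J AddCommGrpCat.{u}) (q : ℤ) (hq : q < 0) :
    Subsingleton ((s0 J).obj A ⟶ ((s0 J).obj G)⟦q⟧) := by
  refine ⟨fun f g => ?_⟩
  have : TStructure.t.IsGE (((s0 J).obj G)⟦q⟧) (-q) :=
    TStructure.t.isGE_shift _ 0 q (-q) (by omega)
  rw [TStructure.t.zero f 0 (-q) (by omega), TStructure.t.zero g 0 (-q) (by omega)]

/-- `H^n(U, G)` as morphisms in the derived category. -/
noncomputable def hduEquiv (G : Sheaf J AddCommGrpCat.{u}) (n : ℕ) (U : C) :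
    CohSite.HU G n U ≃+ CohCx.HDU ((s0 J).obj G) (n : ℤ) U :=
  Abelian.Ext.homAddEquiv

/-- Morphisms of sheaves as morphisms to the zero-th shift in the derived category. -/
noncomputable def hom0Equiv (A G : Sheaf J AddCommGrpCat.{u}) :
    (A ⟶ G) ≃+ ((s0 J).obj A ⟶ ((s0 J).obj G)⟦(0 : ℤ)⟧) where
  toFun f := (s0 J).map f ≫ (shiftFunctorZero _ ℤ).inv.app _
  invFun g := (s0 J).preimage (g ≫ (shiftFunctorZero _ ℤ).hom.app _)
  left_inv f := by simp
  right_inv g := by simp
  map_add' f g := by simp [Functor.map_add, Preadditive.add_comp]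

theorem hom0Equiv_apply {A G : Sheaf J AddCommGrpCat.{u}} (f : A ⟶ G) :
    hom0Equiv A G f = (s0 J).map f ≫ (shiftFunctorZero _ ℤ).inv.app _ := rfl

theorem hom0Equiv_comp {A G G' : Sheaf J AddCommGrpCat.{u}} (f : A ⟶ G) (φ : G ⟶ G') :
    hom0Equiv A G' (f ≫ φ) = hom0Equiv A G f ≫ ((s0 J).map φ)⟦(0 : ℤ)⟧' := by
  have nat := (shiftFunctorZero (DerivedCategory (Sheaf J AddCommGrpCat.{u})) ℤ).inv.naturality
    ((s0 J).map φ)
  simp only [Functor.id_map] at nat
  rw [hom0Equiv_apply, hom0Equiv_apply, Functor.map_comp, Category.assoc, Category.assoc]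
  exact congrArg (fun x => (s0 J).map f ≫ x) nat

/-- Exactness of a complex of sheaves can be checked on sections over a class of objects covering
every object. -/
theorem exactAt_of_covering (M : CochainComplex (Sheaf J AddCommGrpCat.{u}) ℤ) (B : Set C)
    (hB : ∀ U : C, ∃ (ι : Type u) (Y : ι → C) (f : ∀ i, Y i ⟶ U),
      Sieve.ofArrows Y f ∈ J U ∧ ∀ i, Y i ∈ B)
    (n : ℤ) (h : ∀ V ∈ B, SecExact J M n V) : M.ExactAt n := by
  rw [HomologicalComplex.exactAt_iff' M (n - 1) n (n + 1) (by simp) (by simp)]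
  apply exact_of_locally
  intro V (t : (M.X n).obj.obj (op V)) (ht : sec J (M.d n (n + 1)) V t = 0)
  obtain ⟨ι, Yc, f, hf, hY⟩ := hB V
  refine ⟨Sieve.ofArrows Yc f, hf, ?_⟩
  intro W i hi
  obtain ⟨W', j, g, hg, rfl⟩ := hi
  obtain ⟨k⟩ := hg
  let t' : (M.X n).obj.obj (op (Yc k)) := ((M.X n).obj.map (f k).op).hom t
  have ht' : sec J (M.d n (n + 1)) (Yc k) t' = 0 := by
    change sec J (M.d n (n + 1)) (Yc k) (((M.X n).obj.map (f k).op).hom t) = 0
    rw [sec_map]
    change ((M.X (n + 1)).obj.map (f k).op).hom (sec J (M.d n (n + 1)) V t) = 0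
    rw [ht, map_zero]
  obtain ⟨r', hr'⟩ := h (Yc k) (hY k) t' ht'
  refine ⟨((M.X (n - 1)).obj.map j.op).hom r', ?_⟩
  change sec J (M.d (n - 1) n) W (((M.X (n - 1)).obj.map j.op).hom r') =
    ((M.X n).obj.map (j ≫ f k).op).hom t
  rw [sec_map, hr', op_comp, Functor.map_comp]
  rfl

end Site

end Groth.Agent.H5.Rlim
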