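import Groth.Agent.H5.Rlim.Basic

/-!
# `lim F_n` is a derived limit of `(F_n)` under acyclicity on a covering class (helper5 library)
-/

set_option autoImplicit false
set_option backward.isDefEq.respectTransparency false
universe w v u

namespace Groth.Agent.H5.Rlim

open CategoryTheory Limits Opposite DerivedCategory Pretriangulated
open Groth.Agent.H5.HDULib

section Site

variable {C : Type u} [SmallCategory C] {J : GrothendieckTopology C}
  [HasDerivedCategory.{u} (Sheaf J AddCommGrpCat.{u})]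

/-- A morphism of abelian sheaves which is bijective on all sections is an isomorphism. -/
theorem isIso_of_sec_bijective {F G : Sheaf J AddCommGrpCat.{u}} (φ : F ⟶ G)
    (h : ∀ U : C, Function.Bijective (sec J φ U)) : IsIso φ := by
  rw [← isIso_iff_of_reflects_iso φ (sheafToPresheaf J AddCommGrpCat.{u})]
  rw [NatTrans.isIso_iff_isIso_app]
  intro U
  rw [ConcreteCategory.isIso_iff_bijective]
  exact h U.unop

/-- The sections/`Hom` comparison: `Hom(ℤ_U[0], F[0]⟦0⟧) ≃+ F(U)`. -/
noncomputable def secEquiv (U : C) (F : Sheaf J AddCommGrpCat.{u}) :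
    ((s0 J).obj (CohCx.freeSheaf J U) ⟶ ((s0 J).obj F)⟦(0 : ℤ)⟧) ≃+ F.obj.obj (op U) :=
  (hom0Equiv (CohCx.freeSheaf J U) F).symm.trans (CohFree.homEquivSect J U F)

theorem secEquiv_comp (U : C) {F G : Sheaf J AddCommGrpCat.{u}} (φ : F ⟶ G)
    (x : (s0 J).obj (CohCx.freeSheaf J U) ⟶ ((s0 J).obj F)⟦(0 : ℤ)⟧) :
    secEquiv U G (x ≫ ((s0 J).map φ)⟦(0 : ℤ)⟧') = sec J φ U (secEquiv U F x) := by
  obtain ⟨f, rfl⟩ := (hom0Equiv (CohCx.freeSheaf J U) F).surjective x
  rw [← hom0Equiv_comp]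
  change CohFree.evalGen J U G ((hom0Equiv _ G).symm (hom0Equiv _ G (f ≫ φ))) =
    sec J φ U (CohFree.evalGen J U F ((hom0Equiv _ F).symm (hom0Equiv _ F f)))
  rw [AddEquiv.symm_apply_apply, AddEquiv.symm_apply_apply, evalGen_comp]

/-- Transfer of `R^1 lim = 0` from sections to morphisms in the derived category. -/
theorem limOneIsZero_hom0 (F : ℕ → Sheaf J AddCommGrpCat.{u}) (t : ∀ n, F (n + 1) ⟶ F n) (U : C)
    (h2 : CohCx.LimOneIsZero (fun n => (F n).obj.obj (op U)) (fun n => ((t n).hom.app (op U)).hom))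
    (m0 : ℤ) (hm0 : m0 = 0) :
    CohCx.LimOneIsZero
      (fun n => (s0 J).obj (CohCx.freeSheaf J U) ⟶ ((s0 J).obj (F n))⟦m0⟧)
      (fun n => Preadditive.rightComp _ (((s0 J).map (t n))⟦m0⟧')) := by
  subst hm0
  intro b
  obtain ⟨α, hα⟩ := h2 (fun n => secEquiv U (F n) (b n))
  refine ⟨fun n => (secEquiv U (F n)).symm (α n), ?_⟩
  funext n
  apply (secEquiv U (F n)).injective
  have h := congrFun hα n
  simp only at h
  rw [map_sub]
  change secEquiv U (F n) ((secEquiv U (F n)).symm (α n)) -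
    secEquiv U (F n) ((secEquiv U (F (n + 1))).symm (α (n + 1)) ≫
      ((s0 J).map (t n))⟦(0 : ℤ)⟧') = _
  rw [secEquiv_comp, AddEquiv.apply_symm_apply, AddEquiv.apply_symm_apply]
  exact h

variable (F : ℕ → Sheaf J AddCommGrpCat.{u}) (t : ∀ n, F (n + 1) ⟶ F n)

/-- The cone over the tower with vertex `G` given by compatible maps. -/
noncomputable def towerCone (G : Sheaf J AddCommGrpCat.{u}) (g : ∀ n, G ⟶ F n)
    (hg : ∀ n, g (n + 1) ≫ t n = g n) : Cone (CohCx.opSequence F t) :=
  Cone.mk G (NatTrans.ofOpSequence (F := (Functor.const _).obj G) (G := CohCx.opSequence F t)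
    (fun n => g n) (fun n => by
      simp only [Functor.const_obj_obj, Functor.const_obj_map, Category.id_comp]
      rw [Functor.ofOpSequence_map_homOfLE_succ]
      exact (hg n).symm))

theorem limit_π_succ (n : ℕ) :
    limit.π (CohCx.opSequence F t) (op (n + 1)) ≫ t n = limit.π (CohCx.opSequence F t) (op n) := by
  have := limit.w (CohCx.opSequence F t) (homOfLE (Nat.le_add_right n 1)).op
  rwa [Functor.ofOpSequence_map_homOfLE_succ] at this

/-- Main theorem (site version): under acyclicity and `R^1 lim = 0` on a covering class, `lim F_n`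
in degree zero is a derived limit of the `F_n` and is acyclic on the class. -/
theorem main [HasProduct fun n => (s0 J).obj (F n)] (B : Set C)
    (hB : ∀ U : C, ∃ (ι : Type u) (Y : ι → C) (f : ∀ i, Y i ⟶ U),
      Sieve.ofArrows Y f ∈ J U ∧ ∀ i, Y i ∈ B)
    (h1 : ∀ U ∈ B, ∀ (p n : ℕ), Subsingleton (CohSite.HU (F n) (p + 1) U))
    (h2 : ∀ U ∈ B, CohCx.LimOneIsZero (fun n => (F n).obj.obj (op U))
      (fun n => ((t n).hom.app (op U)).hom)) :
    ∃ (L : DerivedCategory (Sheaf J AddCommGrpCat.{u})) (a : ∀ n, L ⟶ (s0 J).obj (F n))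
      (_ : CohCx.IsRlimVia (fun n => (s0 J).obj (F n)) (fun n => (s0 J).map (t n)) L a)
      (e : L ≅ (s0 J).obj (limit (CohCx.opSequence F t))),
      (∀ n, e.inv ≫ a n = (s0 J).map (limit.π (CohCx.opSequence F t) (op n))) ∧
      ∀ U ∈ B, ∀ m : ℤ, m ≠ 0 → Subsingleton (CohCx.HDU L m U) := by
  obtain ⟨L, a, hL⟩ := exists_isRlimVia (fun n => (s0 J).obj (F n)) (fun n => (s0 J).map (t n))
  -- vanishing of the `Hom` groups of the terms
  have hneg : ∀ (U : C) (n : ℕ) (m : ℤ), m < 0 →
      Subsingleton ((s0 J).obj (CohCx.freeSheaf J U) ⟶ ((s0 J).obj (F n))⟦m⟧) :=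
    fun U n m hm => subsingleton_hom_single_neg _ _ m hm
  have hpos : ∀ U ∈ B, ∀ (n : ℕ) (m : ℤ), 0 < m →
      Subsingleton ((s0 J).obj (CohCx.freeSheaf J U) ⟶ ((s0 J).obj (F n))⟦m⟧) := by
    intro U hU n m hm
    obtain ⟨p, rfl⟩ : ∃ p : ℕ, m = ((p + 1 : ℕ) : ℤ) := ⟨(m - 1).toNat, by omega⟩
    have := h1 U hU p n
    exact (hduEquiv (F n) (p + 1) U).symm.subsingleton
  -- vanishing for `L`
  have hL0 : ∀ U ∈ B, ∀ m : ℤ, m ≠ 0 → Subsingleton (CohCx.HDU L m U) := by
    intro U hU m hm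
    rcases lt_or_gt_of_ne hm with h | h
    · have := fun n => hneg U n (m - 1) (by omega)
      exact subsingleton_hom_shift hL _ m (fun n => hneg U n m h)
        (limOneIsZero_of_subsingleton _ _)
    · refine subsingleton_hom_shift hL _ m (fun n => hpos U hU n m h) ?_
      by_cases h1' : m = 1
      · exact limOneIsZero_hom0 F t U (h2 U hU) (m - 1) (by omega)
      · have := fun n => hpos U hU n (m - 1) (by omega)
        exact limOneIsZero_of_subsingleton _ _
  -- `L` is concentrated in degree zero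
  obtain ⟨M, hM, ⟨eM⟩⟩ := Groth.Agent.H33.RlimSite.exists_kinj_model L
  have hex : ∀ m : ℤ, m ≠ 0 → M.ExactAt m := fun m hm =>
    exactAt_of_covering M B hB m (fun V hV => (subsingleton_HDU_iff J M L eM m V).1 (hL0 V hV m hm))
  have hz : ∀ m : ℤ, m ≠ 0 → IsZero ((homologyFunctor _ m).obj L) := fun m hm =>
    ((hex m hm).isZero_homology).of_iso
      ((homologyFunctor _ m).mapIso eM.symm ≪≫ (homologyFunctorFactors _ m).app M)
  have hGE : L.IsGE 0 := (isGE_iff L 0).2 (fun i hi => hz i (by omega))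
  have hLE : L.IsLE 0 := (isLE_iff L 0).2 (fun i hi => hz i (by omega))
  obtain ⟨G, ⟨eG⟩⟩ := exists_iso_singleFunctor_obj_of_isGE_of_isLE L 0
  -- the comparison map `G ⟶ lim F`
  let g : ∀ n, G ⟶ F n := fun n => (s0 J).preimage (eG.inv ≫ a n)
  have hg : ∀ n, (s0 J).map (g n) = eG.inv ≫ a n := fun n => (s0 J).map_preimage _
  have hL' := isRlimVia_of_iso eG hL
  have hcomp : ∀ n, g (n + 1) ≫ t n = g n := by
    intro n
    apply (s0 J).map_injective
    rw [Functor.map_comp, hg, hg]
    exact Groth.Agent.H33.RlimSite.isRlimVia_comp _ _ _ _ hL' n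
  let γ : G ⟶ limit (CohCx.opSequence F t) := limit.lift _ (towerCone F t G g hcomp)
  have hγ : ∀ n, γ ≫ limit.π (CohCx.opSequence F t) (op n) = g n := fun n =>
    limit.lift_π _ _
  have hiso : IsIso γ := by
    apply isIso_of_sec_bijective
    intro U
    constructor
    · rw [injective_iff_map_eq_zero]
      intro x hx
      have hx' : CohFree.ofSect J U G x ≫ γ = 0 := by
        rw [← ofSect_comp, hx, ofSect_zero]
      have hxn : ∀ n, CohFree.ofSect J U G x ≫ g n = 0 := fun n => by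
        rw [← hγ n, ← Category.assoc, hx', zero_comp]
      have hy : ∀ n, hom0Equiv _ G (CohFree.ofSect J U G x) ≫ (eG.inv ≫ a n)⟦(0 : ℤ)⟧' = 0 := by
        intro n
        rw [← hg, ← hom0Equiv_comp, hxn, map_zero]
      have := fun n => hneg U n ((0 : ℤ) - 1) (by omega)
      have h0 := (Groth.Agent.S0943.rlim_hom_lifts _ _ _ _ hL' _ (0 : ℤ)).2
        (limOneIsZero_of_subsingleton _ _) _ hy
      have h00 : CohFree.ofSect J U G x = 0 := by
        apply (hom0Equiv _ G).injective
        rw [h0, map_zero]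
      rw [← CohFree.evalGen_ofSect J U G x, h00, map_zero]
    · intro z
      have hzc : ∀ n, hom0Equiv _ (F (n + 1)) (CohFree.ofSect J U _ z ≫
            limit.π (CohCx.opSequence F t) (op (n + 1))) ≫ ((s0 J).map (t n))⟦(0 : ℤ)⟧' =
          hom0Equiv _ (F n) (CohFree.ofSect J U _ z ≫ limit.π (CohCx.opSequence F t) (op n)) := by
        intro n
        rw [← hom0Equiv_comp, Category.assoc, limit_π_succ]
      obtain ⟨y, hy⟩ := (Groth.Agent.S0943.rlim_hom_lifts _ _ _ _ hL'
        ((s0 J).obj (CohCx.freeSheaf J U)) (0 : ℤ)).1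
        (fun n => hom0Equiv _ (F n) (CohFree.ofSect J U _ z ≫
          limit.π (CohCx.opSequence F t) (op n))) hzc
      have hyn : ∀ n, (hom0Equiv _ G).symm y ≫ g n =
          CohFree.ofSect J U _ z ≫ limit.π (CohCx.opSequence F t) (op n) := by
        intro n
        apply (hom0Equiv _ (F n)).injective
        rw [hom0Equiv_comp, AddEquiv.apply_symm_apply, hg]
        exact hy n
      have hyγ : (hom0Equiv _ G).symm y ≫ γ = CohFree.ofSect J U _ z := by
        apply limit.hom_ext
        intro j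
        obtain ⟨n⟩ := j
        rw [Category.assoc, hγ, hyn]
      refine ⟨CohFree.evalGen J U G ((hom0Equiv _ G).symm y), ?_⟩
      rw [← evalGen_comp, hyγ, CohFree.evalGen_ofSect]
  let eγ : G ≅ limit (CohCx.opSequence F t) := asIso γ
  refine ⟨L, a, hL, eG ≪≫ (s0 J).mapIso eγ, ?_, hL0⟩
  intro n
  rw [Iso.trans_inv, Category.assoc, Functor.mapIso_inv, ← hg, ← Functor.map_comp]
  congr 1
  rw [Iso.inv_comp_eq]
  exact (hγ n).symm

end Site

end Groth.Agent.H5.Rlim
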