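import Groth.Agent.H5.Rlim.Basic
import Groth.Prelude.Def_Formal2

/-!
# The Milnor sequence of a derived limit: the kernel of `Hom(Z, L[i]) → ∏ Hom(Z, K_n[i])` is
`lim¹ Hom(Z, K_n[i-1])` (helper5 library)
-/

set_option autoImplicit false
universe w v u

namespace Groth.Agent.H5.Rlim

open CategoryTheory Limits Opposite Pretriangulated

section Milnor

variable {D : Type u} [Category.{v} D] [Preadditive D] [HasZeroObject D] [HasShift D ℤ]
  [∀ n : ℤ, (shiftFunctor D n).Additive] [Pretriangulated D]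
  (K : ℕ → D) (t : ∀ n, K (n + 1) ⟶ K n) [HasProduct K]

theorem nonempty_ker_equiv_limOne (L : D) (a : ∀ n, L ⟶ K n) (hL : CohCx.IsRlimVia K t L a)
    (Z : D) (i j : ℤ) (hij : j + 1 = i) :
    Nonempty ((AddMonoidHom.pi fun n =>
        (Preadditive.rightComp Z ((a n)⟦i⟧') : (Z ⟶ L⟦i⟧) →+ (Z ⟶ (K n)⟦i⟧))).ker ≃+
      Formal2.limOne (fun n => Z ⟶ (K n)⟦j⟧) (fun n => Preadditive.rightComp Z ((t n)⟦j⟧'))) := by
  obtain ⟨c, hT⟩ := hL
  let α : L ⟶ ∏ᶜ K := Pi.lift a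
  let β : ∏ᶜ K ⟶ ∏ᶜ K := Pi.lift fun n => Pi.π K n - Pi.π K (n + 1) ≫ t n
  let T := Triangle.mk α β c
  have hT' : T ∈ distTriang D := hT
  let F := preadditiveCoyoneda.obj (op Z)
  have hlim : ∀ k : ℤ, IsLimit (Fan.mk ((∏ᶜ K)⟦k⟧) (fun n => (Pi.π K n)⟦k⟧')) := fun k =>
    isLimitFanMkObjOfIsLimit (shiftFunctor D k) K _ (productIsProduct K)
  have hβ : ∀ (k : ℤ) (n : ℕ), β⟦k⟧' ≫ (Pi.π K n)⟦k⟧' =
      (Pi.π K n)⟦k⟧' - (Pi.π K (n + 1))⟦k⟧' ≫ (t n)⟦k⟧' := by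
    intro k n
    rw [← Functor.map_comp, ← Functor.map_comp, ← Functor.map_sub]
    congr 1
    simp [β]
  have hα : ∀ (k : ℤ) (n : ℕ), α⟦k⟧' ≫ (Pi.π K n)⟦k⟧' = (a n)⟦k⟧' := by
    intro k n
    rw [← Functor.map_comp]
    congr 1
    simp [α]
  -- the connecting map on families
  let lift : (∀ n, Z ⟶ (K n)⟦j⟧) → (Z ⟶ (∏ᶜ K)⟦j⟧) := fun x => Fan.IsLimit.lift (hlim j) x
  have hlift : ∀ x n, lift x ≫ (Pi.π K n)⟦j⟧' = x n := fun x n => Fan.IsLimit.fac (hlim j) x n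
  have lift_add : ∀ x y, lift (x + y) = lift x + lift y := by
    intro x y
    apply Fan.IsLimit.hom_ext (hlim j)
    intro n
    change lift (x + y) ≫ (Pi.π K n)⟦j⟧' = (lift x + lift y) ≫ (Pi.π K n)⟦j⟧'
    rw [Preadditive.add_comp, hlift, hlift, hlift]
    rfl
  let δ : (Z ⟶ (∏ᶜ K)⟦j⟧) →+ (Z ⟶ L⟦i⟧) := (F.homologySequenceδ T j i hij).hom
  let Φ : (∀ n, Z ⟶ (K n)⟦j⟧) →+ (Z ⟶ L⟦i⟧) :=
    { toFun := fun x => δ (lift x)
      map_zero' := by
        have : lift 0 = 0 := by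
          have := lift_add 0 0
          rw [add_zero] at this
          exact (add_eq_left.1 this.symm)
        rw [this, map_zero]
      map_add' := fun x y => by rw [lift_add, map_add] }
  have ex3 := F.homologySequence_exact₃ T hT' j i hij
  rw [ShortComplex.ab_exact_iff] at ex3
  have ex1 := F.homologySequence_exact₁ T hT' j i hij
  rw [ShortComplex.ab_exact_iff] at ex1
  have hz3 := F.comp_homologySequenceδ T hT' j i hij
  have hz1 := F.homologySequenceδ_comp T hT' j i hij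
  have E1 : Φ.ker = (Formal2.towerDiff (fun n => Z ⟶ (K n)⟦j⟧)
      (fun n => Preadditive.rightComp Z ((t n)⟦j⟧'))).range := by
    ext x
    rw [AddMonoidHom.mem_ker, AddMonoidHom.mem_range]
    constructor
    · intro hx
      obtain ⟨(v : Z ⟶ (∏ᶜ K)⟦j⟧), hv⟩ := ex3 (lift x) hx
      have hv' : v ≫ β⟦j⟧' = lift x := hv
      refine ⟨fun n => v ≫ (Pi.π K n)⟦j⟧', ?_⟩
      funext n
      change v ≫ (Pi.π K n)⟦j⟧' - (v ≫ (Pi.π K (n + 1))⟦j⟧') ≫ (t n)⟦j⟧' = x n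
      rw [← hlift x n, ← hv']
      simp only [Category.assoc]
      rw [hβ, Preadditive.comp_sub]
    · rintro ⟨v, rfl⟩
      have hl : lift (Formal2.towerDiff (fun n => Z ⟶ (K n)⟦j⟧)
          (fun n => Preadditive.rightComp Z ((t n)⟦j⟧')) v) = lift v ≫ β⟦j⟧' := by
        apply Fan.IsLimit.hom_ext (hlim j)
        intro n
        change lift _ ≫ (Pi.π K n)⟦j⟧' = (lift v ≫ β⟦j⟧') ≫ (Pi.π K n)⟦j⟧'
        rw [hlift, Category.assoc, hβ, Preadditive.comp_sub, ← Category.assoc, hlift, hlift]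
        rfl
      change δ (lift _) = 0
      rw [hl]
      exact congr_arg (fun φ => φ.hom (lift v)) hz3
  have E2 : Φ.range = (AddMonoidHom.pi fun n =>
      (Preadditive.rightComp Z ((a n)⟦i⟧') : (Z ⟶ L⟦i⟧) →+ (Z ⟶ (K n)⟦i⟧))).ker := by
    ext y
    rw [AddMonoidHom.mem_ker, AddMonoidHom.mem_range]
    constructor
    · rintro ⟨x, rfl⟩
      have h0 : δ (lift x) ≫ α⟦i⟧' = 0 := congr_arg (fun φ => φ.hom (lift x)) hz1
      funext n
      change δ (lift x) ≫ (a n)⟦i⟧' = 0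
      rw [← hα, ← Category.assoc, h0, zero_comp]
    · intro hy
      have hyα : y ≫ α⟦i⟧' = 0 := by
        apply Fan.IsLimit.hom_ext (hlim i)
        intro n
        change (y ≫ α⟦i⟧') ≫ (Pi.π K n)⟦i⟧' = 0 ≫ (Pi.π K n)⟦i⟧'
        rw [Category.assoc, hα, zero_comp]
        exact congrFun hy n
      obtain ⟨(w : Z ⟶ (∏ᶜ K)⟦j⟧), hw⟩ := ex1 y hyα
      refine ⟨fun n => w ≫ (Pi.π K n)⟦j⟧', ?_⟩
      have : lift (fun n => w ≫ (Pi.π K n)⟦j⟧') = w := by
        apply Fan.IsLimit.hom_ext (hlim j)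
        intro n
        exact hlift _ n
      change δ (lift _) = y
      rw [this]
      exact hw
  exact ⟨((AddEquiv.addSubgroupCongr E2).symm.trans
    (QuotientAddGroup.quotientKerEquivRange Φ).symm).trans
    (QuotientAddGroup.quotientAddEquivOfEq E1)⟩

end Milnor

end Groth.Agent.H5.Rlim
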