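import Groth.Agent.H5.Rlim.Main
import Groth.Agent.H5.Rlim.Milnor

/-!
# Transport lemmas for the Milnor sequence of sheaf cohomology (helper5 library)
-/

set_option autoImplicit false
set_option backward.isDefEq.respectTransparency false
universe w v u

namespace Groth.Agent.H5.Rlim

open CategoryTheory Limits Opposite DerivedCategory Pretriangulated

section Groups

/-- `lim¹ = 0` for towers with surjective transition maps. -/
theorem limOneIsZero_of_surjective (A : ℕ → Type w) [∀ n, AddCommGroup (A n)]
    (t : ∀ n, A (n + 1) →+ A n) (h : ∀ n, Function.Surjective (t n)) :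
    CohCx.LimOneIsZero A t := by
  intro b
  let a : ∀ n, A n := fun n =>
    Nat.rec (motive := fun n => A n) 0 (fun n an => Classical.choose (h n (an - b n))) n
  have ha : ∀ n, t n (a (n + 1)) = a n - b n := fun n =>
    Classical.choose_spec (h n (a n - b n))
  refine ⟨a, ?_⟩
  funext n
  change a n - t n (a (n + 1)) = b n
  rw [ha]
  abel

/-- Congruence for kernels of maps into a product. -/
noncomputable def kerPiCongr {A A' : Type w} [AddCommGroup A] [AddCommGroup A'] {ι : Type*}
    {B B' : ι → Type w} [∀ n, AddCommGroup (B n)] [∀ n, AddCommGroup (B' n)]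
    (e : A ≃+ A') (eB : ∀ n, B n ≃+ B' n) (f : ∀ n, A →+ B n) (f' : ∀ n, A' →+ B' n)
    (h : ∀ n x, eB n (f n x) = f' n (e x)) :
    (AddMonoidHom.pi f).ker ≃+ (AddMonoidHom.pi f').ker where
  toFun x := ⟨e x.1, by
    rw [AddMonoidHom.mem_ker]
    funext n
    have hx := congrFun ((AddMonoidHom.mem_ker).1 x.2) n
    change f' n (e x.1) = 0
    rw [← h]
    change eB n (f n x.1) = 0
    have : f n x.1 = 0 := hx
    rw [this, map_zero]⟩
  invFun y := ⟨e.symm y.1, by
    rw [AddMonoidHom.mem_ker]
    funext n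
    have hy := congrFun ((AddMonoidHom.mem_ker).1 y.2) n
    change f n (e.symm y.1) = 0
    apply (eB n).injective
    rw [h, AddEquiv.apply_symm_apply, map_zero]
    exact hy⟩
  left_inv x := by ext; simp
  right_inv y := by ext; simp
  map_add' x y := by ext; simp

/-- Congruence for `lim¹`. -/
noncomputable def limOneCongr {G G' : ℕ → Type w} [∀ n, AddCommGroup (G n)]
    [∀ n, AddCommGroup (G' n)] (t : ∀ n, G (n + 1) →+ G n) (t' : ∀ n, G' (n + 1) →+ G' n)
    (e : ∀ n, G n ≃+ G' n) (h : ∀ n x, e n (t n x) = t' n (e (n + 1) x)) :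
    Formal2.limOne G t ≃+ Formal2.limOne G' t' :=
  QuotientAddGroup.congr _ _ (AddEquiv.piCongrRight e) (by
    ext y
    rw [AddSubgroup.mem_map, AddMonoidHom.mem_range]
    constructor
    · rintro ⟨x, ⟨v, rfl⟩, rfl⟩
      refine ⟨fun n => e n (v n), ?_⟩
      funext n
      change e n (v n) - t' n (e (n + 1) (v (n + 1))) = e n (v n - t n (v (n + 1)))
      rw [map_sub, h]
    · rintro ⟨v, rfl⟩
      refine ⟨_, ⟨fun n => (e n).symm (v n), rfl⟩, ?_⟩
      funext n
      change e n ((e n).symm (v n) - t n ((e (n + 1)).symm (v (n + 1)))) =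
        v n - t' n (v (n + 1))
      rw [map_sub, h, AddEquiv.apply_symm_apply, AddEquiv.apply_symm_apply])

end Groups

section Site

variable {C : Type u} [SmallCategory C] {J : GrothendieckTopology C}
  [HasDerivedCategory.{u} (Sheaf J AddCommGrpCat.{u})]

/-- Naturality of `hduEquiv` in the sheaf. -/
theorem hduEquiv_map {G G' : Sheaf J AddCommGrpCat.{u}} (φ : G ⟶ G') (n : ℕ) (U : C)
    (x : CohSite.HU G n U) :
    hduEquiv G' n U ((((Sheaf.cohomologyPresheafFunctor J n).map φ).app (op U)).hom x) =
      hduEquiv G n U x ≫ ((s0 J).map φ)⟦(n : ℤ)⟧' := by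
  change (Abelian.Ext.comp x (Abelian.Ext.mk₀ φ) (add_zero n)).hom = _
  rw [Abelian.Ext.comp_hom, Abelian.Ext.mk₀_hom, ShiftedHom.comp_mk₀]
  rfl

/-- A tower functor is isomorphic to the tower of its successive maps. -/
noncomputable def isoOpSequence {A : Type*} [Category A] (F : ℕᵒᵖ ⥤ A) :
    F ≅ CohCx.opSequence (fun n => F.obj (op n)) (fun n => F.map (homOfLE (Nat.le_succ n)).op) :=
  NatIso.ofComponents (fun n => Iso.refl _) (by
    intro m n f
    have := (NatTrans.ofOpSequence (F := F)
      (G := CohCx.opSequence (fun n => F.obj (op n)) (fun n => F.map (homOfLE (Nat.le_succ n)).op))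
      (fun n => 𝟙 _) (fun n => by
        rw [Functor.ofOpSequence_map_homOfLE_succ]
        simp)).naturality f
    simpa using this)

end Site

end Groth.Agent.H5.Rlim
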